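import Cfsg.Agent.H999.Dp.PSpRow

/-!
# S5734, DP3: the proper subgroups of `PSp_2m(q)`, `m ≥ 3` (helper999)
-/

set_option autoImplicit false

namespace Cfsg.Agent.H999.Dp

open Cfsg Cfsg.Geo Module
open Cfsg.Agent.H884.El (PP Hits Miss oddE oddE_of_even oddE_of_odd oddE_odd exists_pp exists_char one_lt_q)
open Cfsg.Agent.ClassicalGeometry.SympBasic Cfsg.Agent.H876 Cfsg.Agent.H931
open Cfsg.Agent.H262.El Cfsg.Agent.H192.Dp Cfsg.Agent.OrdDiv Cfsg.Agent.H436 Cfsg.Agent.H915.GN
open scoped Matrix MatrixGroups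

universe u

/-! ### arithmetic -/

section arith

variable {q m u r : ℕ}

theorem not_dvd_plus (hq : 2 ≤ q) (hm : 3 ≤ m) (h : PP q (2 * m) r) :
    ¬ r ∣ 2 * q ^ (m * (m - 1)) * (q ^ m - 1) * ∏ i ∈ Finset.range (m - 1), (q ^ (2 * (i + 1)) - 1) := by
  have hlt := h.lt (by omega)
  intro hd
  rcases h.prime.dvd_mul.1 hd with hd | hd
  · rcases h.prime.dvd_mul.1 hd with hd | hd
    · rcases h.prime.dvd_mul.1 hd with hd | hd
      · have := Nat.le_of_dvd (by norm_num) hd
        omega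
      · exact h.not_dvd (by omega) (h.prime.dvd_of_dvd_pow hd)
    · rw [h.dvd_iff (by omega)] at hd
      have := Nat.le_of_dvd (by omega) hd
      omega
  · obtain ⟨i, hi, hd'⟩ := (h.prime.prime.dvd_finsetProd_iff _).1 hd
    rw [h.dvd_iff (by omega)] at hd'
    rw [Finset.mem_range] at hi
    have := Nat.le_of_dvd (by omega) hd'
    omega

theorem not_dvd_minus (hq : 2 ≤ q) (hm : 4 ≤ m) (hme : Even m) (h : PP q m u) :
    ¬ u ^ (padicValNat u (q ^ m - 1) + 1) ∣ 2 * q ^ (m * (m - 1)) * (q ^ m + 1) *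
      ∏ i ∈ Finset.range (m - 1), (q ^ (2 * (i + 1)) - 1) := by
  have hlt := h.lt (by omega)
  have := Fact.mk h.prime
  obtain ⟨k, hk⟩ := hme
  have hmem : k - 1 ∈ Finset.range (m - 1) := by rw [Finset.mem_range]; omega
  rw [← Finset.mul_prod_erase (Finset.range (m - 1)) (fun i => q ^ (2 * (i + 1)) - 1) hmem]
  have e1 : 2 * (k - 1 + 1) = m := by omega
  rw [e1]
  have hpos : 1 < q ^ m := Nat.one_lt_pow (by omega) (by omega)
  have hum : u ∣ q ^ m - 1 := (h.dvd_iff (by omega) m).2 dvd_rfl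
  have hN : ¬ u ∣ 2 * q ^ (m * (m - 1)) * (q ^ m + 1) *
      ∏ i ∈ (Finset.range (m - 1)).erase (k - 1), (q ^ (2 * (i + 1)) - 1) := by
    intro hd
    rcases h.prime.dvd_mul.1 hd with hd | hd
    · rcases h.prime.dvd_mul.1 hd with hd | hd
      · rcases h.prime.dvd_mul.1 hd with hd | hd
        · have := Nat.le_of_dvd (by norm_num) hd
          omega
        · exact h.not_dvd (by omega) (h.prime.dvd_of_dvd_pow hd)
      · have h2 := Nat.dvd_sub hd hum
        have e2 : q ^ m + 1 - (q ^ m - 1) = 2 := by omega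
        rw [e2] at h2
        have := Nat.le_of_dvd (by norm_num) h2
        omega
    · obtain ⟨i, hi, hd'⟩ := (h.prime.prime.dvd_finsetProd_iff _).1 hd
      rw [h.dvd_iff (by omega)] at hd'
      rw [Finset.mem_erase, Finset.mem_range] at hi
      obtain ⟨c, hc⟩ := hd'
      have hc2 : c < 2 := by
        by_contra hcon
        have h3 : m * 2 ≤ m * c := Nat.mul_le_mul_left m (by omega)
        omega
      interval_cases c
      · omega
      · omega
  intro hd
  have h1 : u ^ (padicValNat u (q ^ m - 1) + 1) ∣ (2 * q ^ (m * (m - 1)) * (q ^ m + 1) *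
      ∏ i ∈ (Finset.range (m - 1)).erase (k - 1), (q ^ (2 * (i + 1)) - 1)) * (q ^ m - 1) := by
    refine hd.trans (dvd_of_eq ?_)
    ring
  have hco : Nat.Coprime (u ^ (padicValNat u (q ^ m - 1) + 1)) (2 * q ^ (m * (m - 1)) * (q ^ m + 1) *
      ∏ i ∈ (Finset.range (m - 1)).erase (k - 1), (q ^ (2 * (i + 1)) - 1)) :=
    Nat.Coprime.pow_left _ ((h.prime.coprime_iff_not_dvd).2 hN)
  exact pow_succ_padicValNat_not_dvd (by omega) (hco.dvd_of_dvd_mul_left h1)

end arith

section orders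

variable {F : Type u} [Field F] [Fintype F] {m : ℕ}

/-- **the `u`-part of the order of a subgroup of `O^-_2m(q)`** -/
theorem spec_order (hm : 4 ≤ m) {H : Subgroup (GL (Fin m ⊕ Fin m) F)} (h : SpecQ m F H) (h1 : Hits H (2 * m))
    {u : ℕ} (hu : PP (Nat.card F) m u) : ¬ u ^ (padicValNat u (Nat.card F ^ m - 1) + 1) ∣ Nat.card H := by
  obtain ⟨hme, -, Q, hQ, -, hHQ⟩ := h
  have hq : 2 ≤ Nat.card F := one_lt_q F
  have hι : Fintype.card (Fin m ⊕ Fin m) = 2 * m := card_sum_fin
  obtain ⟨Q', hQ', hnd⟩ := Cfsg.Agent.H883.Bridge.exists_quadraticForm hQ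
  rw [← hQ'] at hHQ
  have hdvd := Subgroup.card_dvd_of_le hHQ
  by_cases hP : Cfsg.Agent.H955.IsPlus Q'
  · exfalso
    have hc := Cfsg.Agent.H957.card_isometryGroup_plus Q' hnd (m := m) (by omega) hι hP
    obtain ⟨r, hr⟩ := exists_pp (q := Nat.card F) (e := 2 * m) (by omega) (by omega) (by
      rintro ⟨-, h⟩
      omega)
    have h2 := (h1 r hr).trans hdvd
    rw [hc, ← Nat.card_eq_fintype_card] at h2
    exact not_dvd_plus hq (by omega) hr h2
  · have hc := Cfsg.Agent.H957.card_isometryGroup_minus Q' hnd (m := m) (by omega) hι hP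
    intro h2
    have h3 := h2.trans hdvd
    rw [hc, ← Nat.card_eq_fintype_card] at h3
    exact not_dvd_minus hq hm hme hu h3

end orders

section PSp

variable {F : Type} [Field F] [Fintype F] {m : ℕ}

theorem good_of_not_hits (hm : 1 ≤ m) {R : Subgroup (PSp m F)} {e k : ℕ} (he : 2 ≤ e) (hek : e ∣ 2 * k)
    (hk : 1 ≤ k) (hkm : k ≤ m) (hL : LevSp m (2 * m) m e) (h : ¬ Hits (pre R) e) :
    GoodIdx (.psp m (Nat.card F)) R := by
  unfold Hits at h
  push Not at h
  obtain ⟨r, hr, hrR⟩ := h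
  have hr2 : r ≠ 2 := by
    have := hr.lt (by omega)
    omega
  have hfin : Finite (PSp m F) := Quotient.finite _
  refine GoodIdx.of_not_dvd hr.prime ⟨e, hL, hr.ord⟩
    (dvd_card_PSp hm hr.prime hr2 (dvd_card_spGL (by omega) (od_of_pp hr (by omega)) hek hk hkm)) fun h1 => hrR ?_
  exact h1.trans (card_pre_eq R)

/-- a proper subgroup of `PSp_2m(q)` -/
theorem psp_core (hm : 3 ≤ m) (hbig : 4097 ≤ Nat.card F ^ (2 * m)) {R : Subgroup (PSp m F)} (hR : R ≠ ⊤) :
    GoodIdx (.psp m (Nat.card F)) R ∨ SpIdx (.psp m (Nat.card F)) R ∨ ∃ P, IsResidualCore (pre R) P := by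
  have h36 : ∀ k, k ≤ 6 → ¬ (Nat.card F = 2 ∧ m = k) := by
    rintro k hk ⟨h1, h2⟩
    rw [h1, h2] at hbig
    have : 2 ^ (2 * k) ≤ 2 ^ 12 := Nat.pow_le_pow_right (by norm_num) (by omega)
    norm_num at this
    omega
  by_cases h1 : Hits (pre R) (2 * m)
  swap
  · exact Or.inl (good_of_not_hits (by omega) (by omega) dvd_rfl (by omega) le_rfl
      ⟨by omega, Or.inl ⟨even_two_mul m, by omega, le_rfl⟩⟩ h1)
  by_cases h2 : Hits (pre R) (2 * m - 2)
  swap
  · refine Or.inl (good_of_not_hits (k := m - 1) (by omega) (by omega) ?_ (by omega) (by omega)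
      ⟨by omega, Or.inl ⟨?_, by omega, by omega⟩⟩ h2)
    · rw [show 2 * m - 2 = 2 * (m - 1) by omega]
    · rw [show 2 * m - 2 = 2 * (m - 1) by omega]
      exact even_two_mul _
  by_cases h3 : Hits (pre R) (oddE m)
  swap
  · have ho3 := oddE_odd (m := m) (by omega)
    rcases Nat.even_or_odd m with he | ho
    · have hm4 : 4 ≤ m := by
        obtain ⟨c, hc⟩ := he
        omega
      rw [oddE_of_even he] at h3 ho3
      exact Or.inl (good_of_not_hits (k := m - 1) (by omega) (by omega) (Dvd.intro_left 2 rfl) (by omega) (by omega)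
        ⟨by omega, Or.inr ⟨ho3, by omega, by omega⟩⟩ h3)
    · rw [oddE_of_odd ho] at h3 ho3
      exact Or.inl (good_of_not_hits (k := m) (by omega) (by omega) (Dvd.intro_left 2 rfl) (by omega) (by omega)
        ⟨by omega, Or.inr ⟨ho3, by omega, by omega⟩⟩ h3)
  right
  rcases Cfsg.Agent.S5662.result m (by omega) (by omega) (pre R) (pre_le R) (by
    rw [sup_eq_left.2 (scalars_le_pre R)]
    exact pre_ne hR) with ⟨M, hM', hle⟩ | ⟨P, hP, -⟩
  · left
    have hS := row_symp hm (by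
      rw [← Nat.card_eq_fintype_card]
      exact fun h => h36 3 (by norm_num) ⟨h.2, h.1⟩) hM' hle h1 (fun _ => h2) (fun _ => h3)
    have hme := hS.1
    have hm4 : 4 ≤ m := by
      obtain ⟨c, hc⟩ := hme
      omega
    obtain ⟨u, hu⟩ := exists_pp (q := Nat.card F) (e := m) (one_lt_q F) (by omega) (fun h => h36 6 le_rfl h)
    exact ⟨m, Nat.card F, u, Or.inl rfl, hm4, hme, hu.prime, hu.ord,
      fun h => spec_order hm4 hS h1 hu (h.trans (card_pre_eq R))⟩
  · exact Or.inr ⟨P, hP⟩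

omit [Fintype F] in
theorem hker_sp (x : Matrix.symplecticGroup (Fin m) F) :
    QuotientGroup.mk' (Subgroup.center (Matrix.symplecticGroup (Fin m) F)) x = 1 ↔
      spToGL m F x ∈ scalars (Fin m ⊕ Fin m) F := by
  rw [show QuotientGroup.mk' (Subgroup.center (Matrix.symplecticGroup (Fin m) F)) x = 1 ↔
    x ∈ Subgroup.center (Matrix.symplecticGroup (Fin m) F) from QuotientGroup.eq_one_iff x]
  constructor
  · intro h
    obtain ⟨a, ha⟩ := (LieClassical.SympCenter.mem_center_iff m x).1 h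
    rcases isEmpty_or_nonempty (Fin m ⊕ Fin m) with hι | ⟨⟨i⟩⟩
    · have : spToGL m F x = 1 := Units.ext (by ext i; exact (hι.false i).elim)
      rw [this]
      exact Subgroup.one_mem _
    · have ha0 : a ≠ 0 := by
        rintro rfl
        rw [zero_smul] at ha
        have h3 : (0 : Matrix (Fin m ⊕ Fin m) (Fin m ⊕ Fin m) F) = 1 := by
          have h1 : x.1 * (x⁻¹).1 = 1 := congrArg Subtype.val (mul_inv_cancel x)
          rw [ha, zero_mul] at h1
          exact h1
        have h4 := congrFun (congrFun h3 i) i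
        rw [Matrix.zero_apply, Matrix.one_apply_eq] at h4
        exact zero_ne_one h4
      refine ⟨Units.mk0 a ha0, Units.ext ?_⟩
      ext i j
      have h5 := congrFun (congrFun ha i) j
      change (Matrix.scalar (Fin m ⊕ Fin m) a) i j = x.1 i j
      rw [h5, Matrix.scalar_apply, Matrix.smul_apply, Matrix.diagonal_apply, Matrix.one_apply]
      split_ifs <;> simp
  · rintro ⟨u, hu⟩
    refine (LieClassical.SympCenter.mem_center_iff m x).2 ⟨(u : F), ?_⟩
    have h1 := congrArg Units.val hu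
    ext i j
    have h5 := congrFun (congrFun h1 i) j
    change (Matrix.scalar (Fin m ⊕ Fin m) (u : F)) i j = x.1 i j at h5
    rw [← h5, Matrix.scalar_apply, Matrix.smul_apply, Matrix.diagonal_apply, Matrix.one_apply]
    split_ifs <;> simp

end PSp

/-- **DP3.** -/
theorem psp_of (hname : ∀ (S : Type) [Group S] [Finite S] [IsSimpleGroup S], ¬ IsMulCommutative S →
    ∃ g, IsNamed g S) (hX : ResX) (hP : ResP) : FamRow (fun g => ∃ m q, g = .psp m q) := by
  obtain ⟨B1, hX⟩ := hX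
  obtain ⟨B2, hP⟩ := hP
  refine ⟨max (max B1 B2) 4097, ?_⟩
  rintro gT T _ _ _ hT hB ⟨m, q, rfl⟩ hq R hR
  have hm : 3 ≤ m := hB
  obtain ⟨F, _, _, hF, ⟨e⟩⟩ := hT.real
  have hq' : max (max B1 B2) 4097 ≤ q ^ (2 * m) := hq
  have hF' : Nat.card F = q := by rw [Nat.card_eq_fintype_card, hF]
  let R' : Subgroup (PSp m F) := R.comap e.symm.toMonoidHom
  have hR' : R' ≠ ⊤ := by
    intro h
    apply hR
    rw [eq_top_iff]
    intro x _
    have h1 : e x ∈ R' := by rw [h]; trivial
    have h2 : e.symm (e x) ∈ R := h1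
    rwa [MulEquiv.symm_apply_apply] at h2
  have hcard : Nat.card R' = Nat.card R := by
    refine Nat.card_congr ⟨fun x => ⟨e.symm x, x.2⟩, fun y => ⟨e y, ?_⟩, fun x => ?_, fun y => ?_⟩
    · change e.symm (e y) ∈ R
      rw [MulEquiv.symm_apply_apply]
      exact y.2
    · exact Subtype.ext (e.apply_symm_apply x)
    · exact Subtype.ext (e.symm_apply_apply y)
  have hidx : R'.index = R.index := Subgroup.index_comap_of_surjective R e.symm.surjective
  rcases psp_core hm (by rw [hF']; omega) hR' with ⟨r, h1, h2, h3⟩ | ⟨m', q', u, h1, h2, h3, h4, h5, h6⟩ | ⟨P, h⟩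
  · left
    exact ⟨r, h1, hF' ▸ h2, hidx ▸ h3⟩
  · right
    exact ⟨m', q', u, hF' ▸ h1, h2, h3, h4, h5, hcard ▸ h6⟩
  -- the residual class
  obtain ⟨S, hSn, hSs, hna, hC, ⟨e'⟩⟩ := Cfsg.Agent.H264.FKS.exists_socle (M := R) (P := P) (spToGL m F)
    spToGL_injective (e.symm.toMonoidHom.comp (QuotientGroup.mk' (Subgroup.center (Matrix.symplecticGroup (Fin m) F))))
    (e.symm.surjective.comp (QuotientGroup.mk'_surjective _)) (fun x => by
      rw [← hker_sp]
      constructor
      · intro hx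
        exact e.symm.map_eq_one_iff.1 hx
      · intro hx
        exact e.symm.map_eq_one_iff.2 hx) (by
      rw [← Subgroup.comap_comap]
      exact h)
  obtain ⟨g, hg⟩ := hname S hna
  obtain ⟨p, hp⟩ := CharP.exists F
  obtain ⟨f, hpp, hpf⟩ := FiniteField.card F p
  have hch : HasChar p (.psp m q) := ⟨f, by rw [← hF, hpf]⟩
  by_cases hg' : HasChar p g
  · exact hP _ p T hpp hT hm hch (le_trans (le_trans (le_max_right _ _) (le_max_left _ _)) hq') R S hR hSn hSs hna hC g
      hg hg'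
  · refine Or.inl (hX _ p T hpp hT hm hch (le_trans (le_trans (le_max_left _ _) (le_max_left _ _)) hq') R S
      ⟨hSn, hSs, hna, hC, Fin m ⊕ Fin m, inferInstance, inferInstance, F, inferInstance, inferInstance, hp, ?_, P,
        h.perfect, ⟨e'⟩⟩ g hg hg')
    rw [card_sum_fin]
    rfl

end Cfsg.Agent.H999.Dp
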