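import Cfsg.Agent.H192.Dp.Res
import Cfsg.Agent.H262.ElSympMiss
import Cfsg.Agent.H264.FKS.Socle
import Cfsg.Agent.H957.SpIndex

/-!
# S5734, DP3: the proper subgroups of `PSp_2m(q)`, `m ≥ 3` (helper999)

`psp_of` : a proper subgroup of `PSp_2m(q)` (large) misses a good prime, or its order is not divisible by the square of
the `u`-part of `q^m - 1` (`m`, `q` even).
-/

set_option autoImplicit false

namespace Cfsg.Agent.H999.Dp

open Cfsg Cfsg.Geo Module
open Cfsg.Agent.H884.El (PP Hits Miss oddE oddE_of_even oddE_of_odd oddE_odd exists_pp exists_ppp exists_elt exists_char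
  one_lt_q lin)
open Cfsg.Agent.ClassicalGeometry.SympBasic Cfsg.Agent.H876 Cfsg.Agent.H931
open Cfsg.Agent.H262.El
open scoped Matrix MatrixGroups

universe u

section row

variable {F : Type u} [Field F] [Fintype F] {m : ℕ}

/-- the special overgroups `O^±_2m(q)`, `m`, `q` even -/
def SpecQ (m : ℕ) (F : Type u) [Field F] [Fintype F] (H : Subgroup (GL (Fin m ⊕ Fin m) F)) : Prop :=
  Even m ∧ Even (Fintype.card F) ∧ ∃ Q : (Fin m ⊕ Fin m → F) → F, IsNondegenerateQuadraticForm Q ∧
    (∀ u v, QuadraticMap.polar Q u v = sympForm m F u v) ∧ H ≤ isometryGroup F Q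

/-- **The symplectic row, primes**, `m ≥ 3` (after helper262's `row_symp`). -/
theorem row_symp (hm3 : 3 ≤ m) (h32 : ¬ (m = 3 ∧ Fintype.card F = 2))
    {H M : Subgroup (GL (Fin m ⊕ Fin m) F)} (hM : InSymplecticClass m F M) (hHM : H ≤ M)
    (h1 : Hits H (2 * m)) (h2 : 3 ≤ m → Hits H (2 * m - 2)) (h3 : 3 ≤ m → Hits H (oddE m)) : SpecQ m F H := by
  have hm : 2 ≤ m := by omega
  have hq := one_lt_q F
  obtain ⟨p, f, hp, hf, hpF⟩ := exists_char F
  have hpF' : Fintype.card F = p ^ f := by rw [← hpF, Nat.card_eq_fintype_card]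
  have hι : Fintype.card (Fin m ⊕ Fin m) = 2 * m := card_sum_fin
  have hne : Nonempty (Fin m ⊕ Fin m) := ⟨Sum.inl ⟨0, by omega⟩⟩
  obtain ⟨r, hr⟩ := Cfsg.Agent.H163.PG.exists_ppd (p := p) (f := f) (k := 2 * m) hp.two_le
    (by nlinarith) (by
      rintro ⟨h2, h6⟩
      apply h32
      have h3 : f * m = 3 := by
        have : f * (2 * m) = 2 * (f * m) := by ring
        omega
      have h4 : m ∣ 3 := Dvd.intro_left f h3
      have h5 : m = 3 := by
        rcases (Nat.dvd_prime Nat.prime_three).1 h4 with h | h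
        · omega
        · exact h
      have h6 : f = 1 := by subst h5; omega
      exact ⟨h5, by rw [hpF', h2, h6, pow_one]⟩)
  have hod : Od (Fintype.card F) (2 * m) r := by
    rw [hpF']
    exact Od.of_ppd hp hf (by omega) hr
  have hrq : PP (Nat.card F) (2 * m) r := pp_of_od hod
  have hrH := h1 r hrq
  obtain ⟨k1, k2, k5, k7⟩ := not_le_of_irr hm hp hf hpF' hr hrH
  obtain ⟨g, hgH, hgr, hg1⟩ : ∃ g ∈ H, g ^ r = 1 ∧ g ≠ 1 := by
    have := Fact.mk hod.prime
    have hfin : Finite (GL (Fin m ⊕ Fin m) F) := inferInstance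
    obtain ⟨g, hg⟩ := exists_prime_orderOf_dvd_card' r hrH
    refine ⟨g, g.2, ?_, ?_⟩
    · rw [← Subgroup.coe_pow, ← hg, pow_orderOf_eq_one]; rfl
    · intro h1
      have hg2 : g = 1 := Subtype.ext h1
      rw [hg2, orderOf_one] at hg
      exact hod.prime.one_lt.ne hg
  -- quadratic fields, `m ≥ 3`
  have kfield : ∀ (s : ℕ) (K : Subalgebra F (Matrix (Fin m ⊕ Fin m) (Fin m ⊕ Fin m) F)), s.Prime →
      IsFieldSubalgebra s K → H ≤ subalgebraNormalizer K → H ≤ spGL m F → m = 2 ∧ s = 2 := by
    intro s K hs hK hHK hHI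
    have hsn : s ∣ 2 * m := by
      let _ : Field K := (H912.isField_of_fieldSub hK).toField
      have h5 := Module.finrank_mul_finrank F K (Fin m ⊕ Fin m → F)
      rw [hK.finrank_eq, Module.finrank_fintype_fun_eq_card, hι] at h5
      exact Dvd.intro _ h5
    by_cases hm2 : m = 2
    · refine ⟨hm2, ?_⟩
      rw [hm2] at hsn
      have : s ∣ 2 ^ 2 := by norm_num; exact hsn
      exact (Nat.prime_dvd_prime_iff_eq hs Nat.prime_two).1 (hs.dvd_of_dvd_pow this)
    · exfalso
      have hm3 : 3 ≤ m := by omega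
      have hs2 : s = 2 := by
        by_cases hexc : Nat.card F = 2 ∧ 2 * m - 2 = 6
        · have hm4 : m = 4 := by omega
          rw [hm4] at hsn
          have : s ∣ 2 ^ 3 := by norm_num; exact hsn
          exact (Nat.prime_dvd_prime_iff_eq hs Nat.prime_two).1 (hs.dvd_of_dvd_pow this)
        · obtain ⟨r₁, hr₁⟩ := exists_pp (q := Nat.card F) (e := 2 * m - 2) (by omega) (by omega) hexc
          have h5 := H884.El.ext_cases hs hK hHK (by rw [hι]; exact hsn) hr₁ (by rw [hι]; omega) (h2 hm3 _ hr₁)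
          exact H884.El.eq_two (by omega) hs hsn (hr₁.lt (by omega)) h5
      subst hs2
      have ho3 := oddE_odd (m := m) (by omega)
      have he33 : 3 ≤ oddE m := by
        rcases Nat.even_or_odd m with he | ho
        · rw [oddE_of_even he]
          obtain ⟨k, hk⟩ := he
          omega
        · rw [oddE_of_odd ho]; exact hm3
      have he3n : 2 * m < 4 * oddE m := by
        rcases Nat.even_or_odd m with he | ho
        · rw [oddE_of_even he]; omega
        · rw [oddE_of_odd ho]; omega
      obtain ⟨r₃, hr₃⟩ := exists_pp (q := Nat.card F) (e := oddE m) (by omega) he33 (by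
        rintro ⟨-, h⟩
        rw [h] at ho3
        exact absurd ho3 (by decide))
      have hfin : Finite (GL (Fin m ⊕ Fin m) F) := inferInstance
      have := Fact.mk hr₃.prime
      obtain ⟨z, hz⟩ := exists_prime_orderOf_dvd_card' r₃ (h3 hm3 _ hr₃)
      refine no_quadratic_symp (g := (z : GL (Fin m ⊕ Fin m) F)) (hHI z.2) hr₃ ho3 he33 he3n ?_ ?_ hK (hHK z.2)
      · rw [← Subgroup.coe_pow, ← hz, pow_orderOf_eq_one]; rfl
      · intro h1
        have hg2 : z = 1 := Subtype.ext h1
        rw [hg2, orderOf_one] at hz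
        exact hr₃.prime.one_lt.ne hz
  rcases hM with hM | hM | hM | hM | hM
  · rcases hM with hM | hM | hM | hM | hM | hM | hM
    · obtain ⟨W, hW0, hW, rfl⟩ := hM
      exact absurd (hHM.trans inf_le_left) (k1 W hW0 (totallySingular_ne_top (by omega) hW))
    · obtain ⟨W, hW0, hW, hW2, rfl⟩ := hM
      refine absurd (hHM.trans inf_le_left) (k1 W hW0 ?_)
      rintro rfl
      rw [finrank_top, Module.finrank_fintype_fun_eq_card, hι] at hW2
      omega
    · obtain ⟨t, k, D, hD, rfl⟩ := hM
      exact absurd (hHM.trans inf_le_left) (k2 t k D hD.decomp)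
    · obtain ⟨D, -, hD, -, rfl⟩ := hM
      exact absurd (hHM.trans inf_le_left) (k2 2 m D hD)
    · obtain ⟨F₀, s, P, ζ, hs, hcard, -, -, rfl⟩ := hM
      exact absurd (hHM.trans inf_le_left) (k5 F₀ s P hs hcard)
    · obtain ⟨R, p', k, hR, habs, -, hp', hodd, hFp, hRc, hZ, -, rfl⟩ := hM
      exfalso
      have hfin : Finite (GL (Fin m ⊕ Fin m) F) := inferInstance
      have hcard := Cfsg.Agent.H921.card_eq_pow_of_center_prime hR habs hZ hRc
      have hk : 1 ≤ k := by
        rcases Nat.eq_zero_or_pos k with h | h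
        · rw [h, pow_zero, hι] at hcard
          omega
        · exact h
      have hHR : H ≤ subgroupNormalizer R := hHM.trans inf_le_left
      have hsp : ∀ {t : ℕ}, t.Prime → t ∣ Nat.card H → t = 2 ∨ t ∣ Nat.card F - 1 ∨ t ≤ 2 ^ k + 1 := fun ht hd =>
        symp_prime (by omega) hHR habs hR hk hcard hZ ht hd
      have hpp : ∀ {e t : ℕ}, 2 ≤ e → PP (Nat.card F) e t → t ∣ Nat.card H → t ≤ 2 * m + 1 := by
        intro e t he ht hd
        have hlt := ht.lt (by omega)
        rcases hsp ht.prime hd with h | h | h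
        · omega
        · have h5 : t ∣ Nat.card F ^ 1 - 1 := by rwa [pow_one]
          rw [ht.dvd_iff (by omega)] at h5
          have := Nat.le_of_dvd one_pos h5
          omega
        · rwa [← hcard, hι] at h
      have hF2 : Nat.card F ≠ 2 := by
        rw [Nat.card_eq_fintype_card, hFp]
        rintro rfl
        exact absurd hodd (by decide)
      by_cases hm2 : m = 2
      · omega
      · have hm3 : 3 ≤ m := by omega
        have hme : Even m := by
          rw [hι] at hcard
          match k, hcard with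
          | 0, h => rw [pow_zero] at h; omega
          | 1, h => omega
          | k + 2, h =>
            rw [pow_succ, pow_succ] at h
            exact ⟨2 ^ k, by omega⟩
        have hm4 : 4 ≤ m := by
          obtain ⟨c, hc⟩ := hme
          omega
        obtain ⟨r₁, hr₁⟩ := exists_pp (q := Nat.card F) (e := 2 * m - 2) (by omega) (by omega) (fun h => hF2 h.1)
        obtain ⟨r₃, hr₃⟩ := exists_pp (q := Nat.card F) (e := m - 1) (by omega) (by omega) (fun h => hF2 h.1)
        have h5 := hpp (by omega) hr₁ (h2 hm3 _ hr₁)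
        have h6 := hpp (by omega) hr₃ (by
          have := h3 hm3
          rw [oddE_of_even hme] at this
          exact this _ hr₃)
        exact H884.El.false_of_even hm4 hme hr₁ hr₃ (by omega) (by omega)
    · obtain ⟨Q, hodd, hQ, hpol, rfl⟩ := hM
      have hHQ : H ≤ isometryGroup F Q := fun h hh =>
        Cfsg.Agent.H262.El.mem_isometry (by omega) hpol (hHM hh).1 (hHM hh).2
      by_cases hme : Even m
      · exact ⟨hme, Nat.not_odd_iff_even.1 hodd, Q, hQ, hpol, hHQ⟩
      exfalso
      have hmo : Odd m := Nat.not_even_iff_odd.1 hme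
      have hm3 : 3 ≤ m := by
        obtain ⟨k, hk⟩ := hmo
        omega
      obtain ⟨Q', hQ', hnd⟩ := Cfsg.Agent.H883.Bridge.exists_quadraticForm hQ
      have hfin : finrank F (Fin m ⊕ Fin m → F) = 2 * m := by rw [Module.finrank_fintype_fun_eq_card, hι]
      rw [← hQ'] at hHQ
      obtain ⟨x, hxH, hiso, -, hx1⟩ := exists_elt hHQ hrq (by omega) hrH
      obtain ⟨hcm, hcmP⟩ := hiso.even_case hnd (H884.El.lin_ne_one hx1) hrq (even_two_mul m) (by omega)
      obtain ⟨r₃, hr₃⟩ := exists_pp (q := Nat.card F) (e := m) (by omega) hm3 (by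
        rintro ⟨-, h⟩
        rw [h] at hmo
        exact absurd hmo (by decide))
      have h3' := h3 hm3
      rw [oddE_of_odd hmo] at h3'
      obtain ⟨z, hzH, hziso, -, hz1⟩ := exists_elt hHQ hr₃ (by omega) (h3' _ hr₃)
      obtain ⟨hzcm, hzP, -⟩ := hziso.odd_case hnd (H884.El.lin_ne_one hz1) hr₃ hmo (by omega)
      have e1 : H951.cm (lin x) = ⊤ := Submodule.eq_top_of_finrank_eq (by rw [hcm, hfin])
      have e2 : H951.cm (lin z) = ⊤ := Submodule.eq_top_of_finrank_eq (by rw [hzcm, hfin])
      rw [e1] at hcmP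
      rw [e2] at hzP
      exact hcmP hzP
  · obtain ⟨s, K, hs, hK, hsa, -, rfl⟩ := hM
    obtain ⟨hm2, rfl⟩ := kfield s K hs hK (hHM.trans inf_le_left) (hHM.trans inf_le_right)
    omega
  · obtain ⟨K, -, hK, -, hnsa, rfl⟩ := hM
    exfalso
    obtain ⟨hm2, -⟩ := kfield 2 K Nat.prime_two hK (hHM.trans inf_le_left) (hHM.trans inf_le_right)
    omega
  · obtain ⟨n₁, n₂, e, P, f₁, f₂, -, hn2, hf₁, -, -, rfl⟩ := hM
    exfalso
    have hc := Fintype.card_congr e
    rw [hι, Fintype.card_prod, Fintype.card_fin, Fintype.card_fin] at hc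
    refine H884.El.kill_tensor e P (hHM.trans inf_le_left) (two_le_of_symp hf₁ ?_) (by omega) (by rw [hι, hc]) hrq
      (by rw [hι]; omega) hrH
    rintro rfl
    rw [zero_mul] at hc
    omega
  · obtain ⟨k, t, e, P, f₁, -, -, ht, -, hf₁, -, rfl⟩ := hM
    refine absurd (hHM.trans inf_le_left) (k7 k t e P (two_le_of_symp hf₁ ?_) (by omega))
    rintro rfl
    have h1 := Fintype.card_congr e
    rw [hι, Fintype.card_fun, Fintype.card_fin, Fintype.card_fin, zero_pow (by omega)] at h1
    omega


end row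

end Cfsg.Agent.H999.Dp
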